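import Groth.Agent.IsoNatLib.CleanLocus.Space
import Groth.Agent.IsoNatLib.Twist.ProperInertia
import Groth.Agent.IsoNatLib.Twist.OpenSubfunctor
import Groth.Agent.Stk19b.TrivStab
import Groth.Agent.Stk19.AlgSt.SepDiag
import Groth.Prelude.Def_W4c2isonaturalstkIso

/-!
# The clean locus of a stack with proper inertia
-/

set_option autoImplicit false
set_option linter.style.haveILetI false
set_option backward.isDefEq.respectTransparency false
set_option backward.isDefEq.respectTransparency.types false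

universe u

open CategoryTheory CategoryTheory.Limits AlgebraicGeometry Opposite FibCat
open Groth.Agent.Stk19 Groth.Agent.Desc19 Groth.Agent.Stk19b Groth.Agent.IsoNatLib.Twist

namespace Groth.Agent.IsoNatLib.CleanLocus

variable {S : Scheme.{u}} {𝒳 : AlgSt.Cat S}

theorem isClean_of_hom {z z' : 𝒳.obj} (φ : z ⟶ z') (h : IsoNat.IsClean z') : IsoNat.IsClean z :=
  fun x ψ => h x (ψ ≫ φ)

section Dict

variable {U : Over S} {G : AlgSp.Sp S} {y : overCat U ⥤ᵇ 𝒳}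
  {e : AlgSt.ofSp G ⥤ᵇ fp y (inertiaToBase (toSelf 𝒳))}

/-- Sections of the inertia over a clean object agree. -/
theorem uniq_of_isClean (he : IsEquivOver e) (a : (overCat U).obj) (ha : IsoNat.IsClean (y.obj a)) :
    Uniq (AlgSt.spMapOfOver (BasedFunctor.comp e (fpFst y (inertiaToBase (toSelf 𝒳))))) a.hom := by
  intro T'' t' γ γ' hγ hγ'
  let z := e.obj ⟨T'', (GrothendieckTopology.uliftYonedaEquiv.{u + 1} (AlgSp.J S)) γ⟩
  let z' := e.obj ⟨T'', (GrothendieckTopology.uliftYonedaEquiv.{u + 1} (AlgSp.J S)) γ'⟩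
  have hv : z.obj.fst.left = T'' := e.w_obj _
  have hv' : z'.obj.fst.left = T'' := e.w_obj _
  have hh : z.obj.fst.hom = eqToHom hv ≫ t' ≫ a.hom := sec_fst_hom e γ hγ hv
  have hh' : z'.obj.fst.hom = eqToHom hv' ≫ t' ≫ a.hom := sec_fst_hom e γ' hγ' hv'
  let φ₀ : z.obj.fst ⟶ z'.obj.fst := Over.homMk (eqToHom (hv.trans hv'.symm)) (by
    rw [hh, hh', eqToHom_trans_assoc])
  let ψ : z.obj.fst ⟶ a := Over.homMk (eqToHom hv ≫ t') (by rw [hh, Category.assoc])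
  let ψ' : z'.obj.fst ⟶ a := Over.homMk (eqToHom hv' ≫ t') (by rw [hh', Category.assoc])
  have h1 : z.obj.snd.aut.hom = 𝟙 z.obj.snd.pt :=
    ha _ (z.obj.iso.inv ≫ y.map ψ) _ z.obj.snd.map_aut
  have h2 : z'.obj.snd.aut.hom = 𝟙 z'.obj.snd.pt :=
    ha _ (z'.obj.iso.inv ≫ y.map ψ') _ z'.obj.snd.map_aut
  let Sn : z.obj.snd ⟶ z'.obj.snd := ⟨z.obj.iso.inv ≫ y.map φ₀ ≫ z'.obj.iso.hom, by
    rw [h1, h2]
    exact (Category.id_comp _).trans (Category.comp_id _).symm⟩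
  let M : z ⟶ z' := fpHom φ₀ Sn (by
    show y.map φ₀ ≫ z'.obj.iso.hom = z.obj.iso.hom ≫ (z.obj.iso.inv ≫ y.map φ₀ ≫ z'.obj.iso.hom)
    rw [Iso.hom_inv_id_assoc])
  have h := sec_eq_of_hom he (𝟙 T'') γ γ' M (by
    show M.hom.fst.left = _
    exact ((Category.id_comp _).trans rfl).symm.trans (by simp [M, φ₀]))
  rw [CategoryTheory.Functor.map_id, Category.id_comp] at h
  exact h.symm

/-- An object over which sections of the inertia agree is clean. -/
theorem isClean_of_uniq (h : IsFibGrpd 𝒳.p) (he : IsEquivOver e) (a : (overCat U).obj)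
    (hu : Uniq (AlgSt.spMapOfOver (BasedFunctor.comp e (fpFst y (inertiaToBase (toSelf 𝒳))))) a.hom) :
    IsoNat.IsClean (y.obj a) := by
  intro x φ s hs
  let t' : 𝒳.p.obj x ⟶ a.left := 𝒳.p.map φ ≫ eqToHom (y.w_obj a)
  let b : (overCat U).obj := Over.mk (t' ≫ a.hom)
  let β : b ⟶ a := Over.homMk t' rfl
  obtain ⟨θ, ⟨hθ, -⟩, -⟩ := fibGrpd_fac h φ (y.map β) (eqToHom (y.w_obj b)) (by
    rw [based_map y β]
    show eqToHom _ ≫ _ = eqToHom _ ≫ t' ≫ eqToHom _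
    simp [t'])
  haveI : IsIso θ := by
    have : IsIso (𝒳.p.map θ) := by rw [hθ]; infer_instance
    exact fibGrpd_isIso h _
  haveI : IsIso s := by
    have : IsIso (𝒳.p.map s) := by rw [hs]; infer_instance
    exact fibGrpd_isIso h _
  let c : y.obj b ⟶ y.obj b := θ ≫ s ≫ inv θ
  have hc : 𝒳.p.map c = 𝟙 _ := by
    show 𝒳.p.map (θ ≫ s ≫ inv θ) = _
    rw [𝒳.p.map_comp, 𝒳.p.map_comp, hs, Category.id_comp, ← 𝒳.p.map_comp, IsIso.hom_inv_id, 𝒳.p.map_id]
  let z : (fp y (inertiaToBase (toSelf 𝒳))).obj :=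
    fpMk b (⟨y.obj b, asIso c, hc⟩ : InertiaObj (toSelf 𝒳)) (Iso.refl _) (IsHomLift.id (y.w_obj b))
  let z₀ : (fp y (inertiaToBase (toSelf 𝒳))).obj :=
    fpMk b (⟨y.obj b, Iso.refl _, 𝒳.p.map_id _⟩ : InertiaObj (toSelf 𝒳)) (Iso.refl _) (IsHomLift.id (y.w_obj b))
  obtain ⟨γ, hγ, i, hi⟩ := exists_sec' e he z
  obtain ⟨γ₀, hγ₀, i₀, hi₀⟩ := exists_sec' e he z₀
  obtain rfl : γ = γ₀ := hu t' γ γ₀ hγ hγ₀
  let M : z ⟶ z₀ := i.inv ≫ i₀.hom
  have hi₀' : (fp y (inertiaToBase (toSelf 𝒳))).p.map i₀.hom = eqToHom (e.w_obj _) :=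
    (cancel_mono ((fp y (inertiaToBase (toSelf 𝒳))).p.map i₀.inv)).1 (by
      rw [← Functor.map_comp, Iso.hom_inv_id, CategoryTheory.Functor.map_id, hi₀, eqToHom_trans, eqToHom_refl])
  have hfst : M.hom.fst = 𝟙 b := Over.OverMorphism.ext (by
    show (fp y (inertiaToBase (toSelf 𝒳))).p.map M = 𝟙 b.left
    rw [Functor.map_comp, hi, hi₀']
    exact eqToHom_trans _ _)
  have hsnd : M.hom.snd.hom = 𝟙 (y.obj b) := by
    have w : y.map M.hom.fst ≫ 𝟙 (y.obj b) = 𝟙 (y.obj b) ≫ M.hom.snd.hom := M.hom.w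
    have e1 : y.map M.hom.fst = 𝟙 (y.obj b) :=
      (congrArg (fun f : b ⟶ b => y.map f) hfst).trans (y.toFunctor.map_id b)
    exact ((Category.id_comp _).symm.trans (w.symm.trans (Category.comp_id _))).trans e1
  have hc1 : c ≫ M.hom.snd.hom = M.hom.snd.hom ≫ 𝟙 (y.obj b) := M.hom.snd.comm
  replace hc1 : c = 𝟙 (y.obj b) := by
    have e2 : c ≫ 𝟙 (y.obj b) = 𝟙 (y.obj b) ≫ 𝟙 (y.obj b) := by
      refine Eq.trans ?_ (hc1.trans ?_)
      · exact congrArg (fun f : y.obj b ⟶ y.obj b => c ≫ f) hsnd.symm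
      · exact congrArg (fun f : y.obj b ⟶ y.obj b => f ≫ 𝟙 (y.obj b)) hsnd
    exact (Category.comp_id c).symm.trans (e2.trans (Category.comp_id _))
  have hs1 : θ ≫ s = θ ≫ 𝟙 x := by
    rw [← cancel_mono (inv θ), Category.assoc, Category.comp_id, IsIso.hom_inv_id]
    exact hc1
  exact (cancel_epi θ).1 hs1

/-- The neutral section. -/
theorem exists_neutral (he : IsEquivOver e) : ∃ σ : (AlgSp.yon S).obj U ⟶ G,
    σ ≫ AlgSt.spMapOfOver (BasedFunctor.comp e (fpFst y (inertiaToBase (toSelf 𝒳)))) = 𝟙 _ := by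
  let o : (overCat U).obj := Over.mk (𝟙 U)
  let z₀ : (fp y (inertiaToBase (toSelf 𝒳))).obj :=
    fpMk o (⟨y.obj o, Iso.refl _, 𝒳.p.map_id _⟩ : InertiaObj (toSelf 𝒳)) (Iso.refl _) (IsHomLift.id (y.w_obj o))
  obtain ⟨γ, hγ, -⟩ := exists_sec' e he z₀
  exact ⟨γ, hγ.trans ((AlgSp.yon S).map_id U)⟩

end Dict

variable (h : IsFibGrpd 𝒳.p)
  (hpr : AlgSt.RepByAlgSpWith AlgSp.IsProperMor (inertiaToBase (toSelf 𝒳)))
  (hlfp : AlgSt.RepByAlgSpWith (AlgSp.LocP @LocallyOfFinitePresentation) (inertiaToBase (toSelf 𝒳)))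

include h hpr hlfp in
/-- The clean objects over a chart form an open subscheme, compact when the chart is affine. -/
theorem exists_clean_open (U : Over S) (y : overCat U ⥤ᵇ 𝒳) : ∃ O : U.left.Opens,
    (∀ a : (overCat U).obj, IsoNat.IsClean (y.obj a) ↔ ∀ k, a.hom.left k ∈ O) ∧
      (IsAffine U.left → IsCompact (O : Set ↥U.left)) := by
  obtain ⟨F, e, he, ⟨hsep, hft, hcl⟩, hl⟩ :=
    repByAlgSpWith_and (respSrc_locP AlgSpLib.etLocal_lfp) hpr hlfp U y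
  let a₀ := AlgSt.spMapOfOver (BasedFunctor.comp e (fpFst y (inertiaToBase (toSelf 𝒳))))
  obtain ⟨σ, hσ⟩ := exists_neutral he
  have sq : IsPullback (𝟙 F.obj) a₀ a₀ (𝟙 _) :=
    IsPullback.of_horiz_isIso ⟨(Category.id_comp _).trans (Category.comp_id _).symm⟩
  have hclosed : IsClosedMap (AlgSp.Points.map a₀) := hcl (AlgSp.IsAlgSpace.yon_obj U) _ _ _ sq
  obtain ⟨W, a, hae, has, hW⟩ : ∃ (W : Over S) (a : (AlgSp.yon S).obj W ⟶ F.obj),
      AlgSp.RepWith @Etale a ∧ AlgSp.RepWith @Surjective a ∧ (IsAffine U.left → IsAffine W.left) := by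
    by_cases hU : IsAffine U.left
    · haveI : CompactSpace ↥U.left := inferInstance
      haveI := AlgSpLib.compactSpace_points_of_isQuasiCompactSp
        (hft.2 (AlgSp.IsAlgSpace.yon_obj U) (Stk19.isQuasiCompactSp_yon U) _ _ _ sq)
      obtain ⟨W, a, hWa, hae, has⟩ := AlgSpLib.exists_affine_chart F.property
      exact ⟨W, a, hae, has, fun _ => hWa⟩
    · obtain ⟨W, a, hae, has⟩ := F.property.atlas
      exact ⟨W, a, hae, has, fun hh => absurd hh hU⟩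
  obtain ⟨V, hV, hVc⟩ := exists_open a₀ hsep hclosed hl σ hσ a hae has
  exact ⟨V, fun b => ⟨fun hb => (hV _ b.hom).1 (uniq_of_isClean he b hb),
    fun hb => isClean_of_uniq h he b ((hV _ b.hom).2 hb)⟩, fun hU => hVc hU (hW hU)⟩

include h hpr hlfp in
/-- The clean locus of a chart is quasi-compact over the chart. -/
theorem exists_clean_open_qc (U : Over S) (y : overCat U ⥤ᵇ 𝒳) : ∃ O : U.left.Opens, QuasiCompact O.ι ∧
    (∀ a : (overCat U).obj, IsoNat.IsClean (y.obj a) ↔ ∀ k, a.hom.left k ∈ O) := by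
  obtain ⟨O, hO, -⟩ := exists_clean_open h hpr hlfp U y
  refine ⟨O, quasiCompact_iff_forall_isAffineOpen.2 fun A hA => ?_, hO⟩
  let A' : Over S := Over.mk (A.ι ≫ U.hom)
  let ι : A' ⟶ U := Over.homMk A.ι
  obtain ⟨O', hO', hc⟩ := exists_clean_open h hpr hlfp A' (BasedFunctor.comp (AlgSt.overMap ι) y)
  have hp : ∀ b : (overCat A').obj, (∀ k, b.hom.left k ∈ O') ↔ ∀ k, A.ι (b.hom.left k) ∈ O := fun b =>
    (hO' b).symm.trans (hO ((AlgSt.overMap ι).obj b))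
  have heq : O' = A.ι ⁻¹ᵁ O := by
    refine le_antisymm (fun k hk => ?_) (fun k hk => ?_)
    · exact (hp (Over.mk (Over.homMk O'.ι rfl : Over.mk (O'.ι ≫ A'.hom) ⟶ A'))).1 (fun k => k.2) ⟨k, hk⟩
    · exact (hp (Over.mk (Over.homMk (A.ι ⁻¹ᵁ O).ι rfl : Over.mk ((A.ι ⁻¹ᵁ O).ι ≫ A'.hom) ⟶ A'))).2
        (fun k => k.2) ⟨k, hk⟩
  have hcomp := (hc hA).image A.ι.continuous
  rw [heq, Scheme.Hom.coe_preimage, Set.image_preimage_eq_inter_range, Scheme.Opens.range_ι] at hcomp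
  rw [Scheme.Hom.coe_preimage, O.ι.isOpenEmbedding.isInducing.isCompact_iff,
    Set.image_preimage_eq_inter_range, Scheme.Opens.range_ι, Set.inter_comm]
  exact hcomp

/-- The inclusion cut out on charts by opens has the properties of those opens. -/
theorem rep_subIncl_of_chart (h : IsFibGrpd 𝒳.p) {Q : 𝒳.obj → Prop} {P : MorphismProperty (AlgSp.Sp S)}
    (R : ∀ U : Over S, U.left.Opens → Prop)
    (hP : ∀ (U : Over S) (O : U.left.Opens), R U O →
      P ((AlgSp.yon S).map (Over.homMk O.ι : Over.mk (O.ι ≫ U.hom) ⟶ U)))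
    (hQ : ∀ ⦃a b : 𝒳.obj⦄ (_ : a ⟶ b), Q b → Q a)
    (hW : ∀ (U : Over S) (y : overCat U ⥤ᵇ 𝒳), ∃ O : U.left.Opens, R U O ∧ ∀ a : (overCat U).obj,
      Q (y.obj a) ↔ ∀ k, a.hom.left k ∈ O) : AlgSt.RepByAlgSpWith P (AlgSt.subIncl 𝒳 Q) := by
  intro U y
  obtain ⟨O, hR, hO⟩ := hW U y
  let U' : Over S := Over.mk (O.ι ≫ U.hom)
  let u : U' ⟶ U := Over.homMk O.ι
  have hu : Mono u := (Over.forget S).mono_of_mono_map (inferInstanceAs (Mono O.ι))
  let z : overCat U' ⥤ᵇ 𝒳 := BasedFunctor.comp (AlgSt.overMap u) y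
  have hz : ∀ a, Q (z.obj a) := fun a => (hO ((AlgSt.overMap u).obj a)).2 fun k => (a.hom.left k).2
  let L : overCat U' ⥤ᵇ AlgSt.fullSub 𝒳 (Q) :=
    { toFunctor := ObjectProperty.lift _ z.toFunctor hz
      w := z.w }
  let G : overCat U' ⥤ᵇ fp y (AlgSt.subIncl 𝒳 (Q)) :=
    fpLift (F := y) (G := AlgSt.subIncl 𝒳 (Q)) (AlgSt.overMap u) L (Iso.refl z)
  have hG : IsEquivOver G := by
    refine EqvData.isEquivOver ⟨⟨fun {a b} m => ?_⟩, ⟨fun {a b} f g hfg => ?_⟩, fun η => ?_⟩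
    · have hw : m.hom.fst.left ≫ b.hom ≫ u = a.hom ≫ u := Over.w m.hom.fst
      let f : a ⟶ b := Over.homMk m.hom.fst.left ((cancel_mono u).1 (by rw [Category.assoc]; exact hw))
      have hf : (AlgSt.overMap u).map f = m.hom.fst := Over.OverMorphism.ext rfl
      refine ⟨f, fp_hom_ext hf (ObjectProperty.hom_ext _ ?_)⟩
      have w := m.hom.w
      change y.map ((AlgSt.overMap u).map f) = m.hom.snd.hom
      rw [hf]
      exact (Category.comp_id _).symm.trans (w.trans (Category.id_comp _))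
    · exact Over.OverMorphism.ext (congrArg (fun m => m.hom.fst.left) hfg)
    · let a := η.obj.fst
      have ha : ∀ k, a.hom.left k ∈ O := (hO a).1 (hQ η.obj.iso.hom η.obj.snd.property)
      have hr : Set.range a.hom.left ⊆ Set.range O.ι := by
        rintro _ ⟨k, rfl⟩
        rw [Scheme.Opens.range_ι]
        exact ha k
      let v : a.left ⟶ U' := Over.homMk (IsOpenImmersion.lift O.ι a.hom.left hr)
        (by simp [U', IsOpenImmersion.lift_fac_assoc])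
      have hv : v ≫ u = a.hom := Over.OverMorphism.ext (IsOpenImmersion.lift_fac _ _ _)
      let i : (AlgSt.overMap u).obj (Over.mk v) ≅ a := Over.isoMk (Iso.refl _) (by
        show 𝟙 _ ≫ a.hom = v ≫ u
        rw [Category.id_comp, hv])
      let j : L.obj (Over.mk v) ≅ η.obj.snd :=
        (ObjectProperty.ι (Q)).preimageIso (y.toFunctor.mapIso i ≪≫ η.obj.iso)
      let e : G.obj (Over.mk v) ≅ η := fpIsoMk i j (by
        show y.map i.hom ≫ η.obj.iso.hom = 𝟙 _ ≫ (ObjectProperty.ι (Q)).map j.hom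
        exact ((Category.id_comp _).trans ((ObjectProperty.ι (Q)).map_preimage
          (X := L.obj (Over.mk v)) (Y := η.obj.snd) (y.toFunctor.mapIso i ≪≫ η.obj.iso).hom)).symm)
      exact ⟨Over.mk v, e, (vert_iff (fp y (AlgSt.subIncl 𝒳 (Q))).p _).2 ⟨rfl, rfl, rfl⟩⟩
  refine ⟨⟨_, AlgSp.IsAlgSpace.yon_obj U'⟩, BasedFunctor.comp (AlgSt.toOverCat U') G,
    isEquivOver_comp (isEquivOver_toOverCat U') hG, ?_⟩
  change P (AlgSt.spMapOfOver (BasedFunctor.comp (AlgSt.toOverCat U') (AlgSt.overMap u)))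
  rw [spMapOfOver_overMap, spMapOfOver_toOverCat, Category.id_comp]
  exact hP U O hR

theorem main (h𝒳 : AlgSt.IsAlgStack Scheme.fppfPrecoverage 𝒳)
    (hpr : AlgSt.RepByAlgSpWith AlgSp.IsProperMor (inertiaToBase (toSelf 𝒳)))
    (hlfp : AlgSt.RepByAlgSpWith (AlgSp.LocP @LocallyOfFinitePresentation) (inertiaToBase (toSelf 𝒳))) :
    AlgSt.IsOpenSubstack 𝒳 (fun η => IsoNat.IsClean η) Scheme.fppfPrecoverage ∧
      AlgSt.RepByAlgSpWith AlgSp.IsQuasiCompactMor (AlgSt.subIncl 𝒳 (fun η => IsoNat.IsClean η)) := by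
  have h := h𝒳.isStack.1
  have hQ : ∀ ⦃a b : 𝒳.obj⦄ (_ : a ⟶ b), IsoNat.IsClean b → IsoNat.IsClean a := fun a b φ => isClean_of_hom φ
  have hopen := Stk19b.ModStk.isOpenImm_subIncl_of_chart h hQ fun U y => by
    obtain ⟨O, hO, -⟩ := exists_clean_open h hpr hlfp U y
    exact ⟨O, hO⟩
  refine ⟨⟨⟨fun e hh => hQ e.inv hh⟩,
    isAlgStack_of_rep1 (Stk19b.fibGrpd_fullSub h hQ) h𝒳 _ (repByAlgSp1_of_with hopen), hopen⟩, ?_⟩
  refine rep_subIncl_of_chart h (fun U O => QuasiCompact O.ι) (fun U O hR => ?_) hQ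
    (exists_clean_open_qc h hpr hlfp)
  haveI := hR
  exact (AlgSpLib.repWith_quasiCompact_iff (AlgSp.IsAlgSpace.yon_obj _) (AlgSp.IsAlgSpace.yon_obj _)
    (AlgSp.representable_yon_map _)).1 ((AlgSp.repWith_yon_map_iff @QuasiCompact _).2 hR)

end Groth.Agent.IsoNatLib.CleanLocus
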