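import Groth.Agent.AlgSpLib.MorProper
import Groth.Agent.AlgSpLib.MorTop
import Groth.Agent.EGA43.Limit.Basic
import Groth.Agent.AlgSpLib.ValuationDescent
import Groth.Agent.AlgSpLib.PointsCompact
import Groth.Agent.EGA43.Cons.Unramified
import Groth.Agent.FlatMor12.IsoLocusMod
import Groth.Agent.H8Lim.Constructible

/-!
# The locus of the base over which a space with a section has no other sections
-/

set_option autoImplicit false
set_option linter.style.haveILetI false
set_option backward.isDefEq.respectTransparency false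
set_option backward.isDefEq.respectTransparency.types false

universe u

open CategoryTheory CategoryTheory.Limits AlgebraicGeometry Opposite Topology AlgSp
open Groth.Agent.AlgSpLib Groth.Agent.EGA43.Cons

namespace Groth.Agent.IsoNatLib.CleanLocus

variable {S : Scheme.{u}} {T : Over S} {F : Sp S} (a₀ : F ⟶ (yon S).obj T)

/-- Over every scheme over `T'` there is at most one section of `a₀`. -/
def Uniq {T' : Over S} (t : T' ⟶ T) : Prop :=
  ∀ ⦃T'' : Over S⦄ (t' : T'' ⟶ T') (γ γ' : (yon S).obj T'' ⟶ F),
    γ ≫ a₀ = (yon S).map (t' ≫ t) → γ' ≫ a₀ = (yon S).map (t' ≫ t) → γ = γ'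

/-- The image of a point of a scheme mapping to `h_T`. -/
theorem map_ofPt_eq {W : Over S} {g : (yon S).obj W ⟶ F} {l : W ⟶ T} (h : g ≫ a₀ = (yon S).map l) (w : ↥W.left) :
    Points.map a₀ (Points.ofPt g w) = Points.schemeHomeo T (l.left w) := by
  rw [Points.map_ofPt, h, Points.ofPt_eq_map_ofScheme]
  exact Points.map_yon_map_apply l w

theorem exists_open (hsep : IsSeparatedMor a₀) (hcl : IsClosedMap (Points.map a₀))
    (hlfp : LocP @LocallyOfFinitePresentation a₀) (σ : (yon S).obj T ⟶ F) (hσ : σ ≫ a₀ = 𝟙 _)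
    {W : Over S} (a : (yon S).obj W ⟶ F) (hae : RepWith @Etale a) (has : RepWith @Surjective a) :
    ∃ V : T.left.Opens, (∀ (T' : Over S) (t : T' ⟶ T), Uniq a₀ t ↔ ∀ x, t.left x ∈ V) ∧
      (IsAffine T.left → IsAffine W.left → IsCompact (V : Set ↥T.left)) := by
  obtain ⟨l, hl⟩ := (yon S).map_surjective (a ≫ a₀)
  have : LocallyOfFinitePresentation l.left :=
    hlfp a (𝟙 _) l hae (repWith_id _ T) (by rw [Category.comp_id, hl])
  have hσc : RepWith @IsClosedImmersion σ := RepWith.baseChange (isPullback_section a₀ σ hσ) hsep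
  let i := hae.1.fst' σ
  let p := hae.1.snd σ
  have sqP : IsPullback ((yon S).map i) ((yon S).map p) a σ := hae.1.isPullback' σ
  haveI hi : IsClosedImmersion i.left := hσc.property a ((yon S).map p) i sqP.flip
  haveI hp : Etale p.left := hae.property_snd σ
  have hil : i ≫ l = p := (yon S).map_injective (by
    rw [Functor.map_comp, hl, reassoc_of% sqP.w, hσ, Category.comp_id])
  have hil' : i.left ≫ l.left = p.left := congrArg (fun f => f.left) hil
  let U : W.left.Opens := ⟨unramLocus l.left, isOpen_unramLocus _⟩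
  have hU : FormallyUnramified (U.ι ≫ l.left) :=
    (formallyUnramified_iff_unramLocus _).2 fun x => by
      rw [unramLocus_comp]
      exact x.2
  let iU := i.left ∣_ U
  have hiU : Etale iU := by
    haveI := hU
    haveI : Etale (iU ≫ U.ι ≫ l.left) := by
      rw [morphismRestrict_ι_assoc, hil']
      infer_instance
    exact Etale.of_comp iU (U.ι ≫ l.left)
  haveI : IsClosedImmersion iU := inferInstanceAs (IsClosedImmersion (i.left ∣_ U))
  haveI : IsOpenImmersion iU := IsOpenImmersion.of_flat_of_mono iU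
  let j := (i.left ⁻¹ᵁ U).ι ≫ i.left
  haveI : IsOpenImmersion j := by
    have e : j = iU ≫ U.ι := (morphismRestrict_ι i.left U).symm
    rw [e]
    infer_instance
  let G : W.left.Opens := j.opensRange
  have hG : ∀ w, w ∈ G ↔ w ∈ Set.range i.left ∧ w ∈ unramLocus l.left := by
    intro w
    constructor
    · rintro ⟨q, rfl⟩
      exact ⟨⟨(i.left ⁻¹ᵁ U).ι q, rfl⟩, q.2⟩
    · rintro ⟨⟨q, rfl⟩, hw⟩
      exact ⟨⟨q, hw⟩, rfl⟩
  -- a section meeting only `G` is the given one
  have key : ∀ {T'' : Over S} (t : T'' ⟶ T) (γ : (yon S).obj T'' ⟶ F), γ ≫ a₀ = (yon S).map t →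
      (∀ x, Points.ofPt γ x ∈ Points.ofPt a '' (G : Set ↥W.left)) → γ = (yon S).map t ≫ σ := by
    intro T'' t γ hγ hx
    let w := hae.1.fst' γ
    let q := hae.1.snd γ
    have sq : IsPullback ((yon S).map w) ((yon S).map q) a γ := hae.1.isPullback' γ
    haveI : Etale q.left := hae.property_snd γ
    let O := w.left ⁻¹ᵁ G
    let Q : Over S := Over.mk (O.ι ≫ (hae.1.pullback γ).hom)
    let o : Q ⟶ hae.1.pullback γ := Over.homMk O.ι
    haveI he : Etale (o ≫ q).left := inferInstanceAs (Etale (O.ι ≫ q.left))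
    haveI hs : Surjective (o ≫ q).left := ⟨fun x => by
      obtain ⟨g, hg, e⟩ := hx x
      rw [Points.ofPt_eq_map_ofScheme a, Points.ofPt_eq_map_ofScheme γ] at e
      obtain ⟨z, h1, h2⟩ := exists_point_of_isPullback sq e
      obtain ⟨z', rfl⟩ := (Points.schemeHomeo (hae.1.pullback γ)).surjective z
      rw [Points.map_yon_map_apply] at h1 h2
      have h1' : w.left z' = g := (Points.schemeHomeo W).injective h1
      have h2' : q.left z' = x := (Points.schemeHomeo T'').injective h2
      exact ⟨⟨z', show w.left z' ∈ G by rw [h1']; exact hg⟩, h2'⟩⟩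
    haveI := epi_yon_map_of_etale (o ≫ q) he hs
    have hr : Set.range (O.ι ≫ w.left) ⊆ Set.range j := by
      rintro _ ⟨z, rfl⟩
      exact z.2
    let k₀ := IsOpenImmersion.lift j (O.ι ≫ w.left) hr
    have hk₀ : (k₀ ≫ (i.left ⁻¹ᵁ U).ι) ≫ i.left = O.ι ≫ w.left := by
      rw [Category.assoc]
      exact IsOpenImmersion.lift_fac j _ hr
    let k : Q ⟶ hae.1.pullback σ := Over.homMk (k₀ ≫ (i.left ⁻¹ᵁ U).ι) (by
      show (k₀ ≫ _) ≫ (hae.1.pullback σ).hom = O.ι ≫ (hae.1.pullback γ).hom
      refine Eq.trans ?_ (congrArg (fun f => O.ι ≫ f) (Over.w w))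
      rw [← Over.w i]
      show _ = O.ι ≫ w.left ≫ W.hom
      exact (Category.assoc _ _ _).symm.trans ((congrArg (fun f => f ≫ W.hom) hk₀).trans (Category.assoc _ _ _)))
    have hki : k ≫ i = o ≫ w := Over.OverMorphism.ext hk₀
    have hwq : w ≫ l = q ≫ t := (yon S).map_injective (by
      rw [Functor.map_comp, Functor.map_comp, hl, reassoc_of% sq.w, hγ])
    have hkp : k ≫ p = (o ≫ q) ≫ t := by
      rw [← hil, reassoc_of% hki, hwq, Category.assoc]
    rw [← cancel_epi ((yon S).map (o ≫ q))]
    calc (yon S).map (o ≫ q) ≫ γ = (yon S).map (o ≫ w) ≫ a := by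
          rw [Functor.map_comp, Functor.map_comp, Category.assoc, Category.assoc, sq.w]
      _ = (yon S).map (k ≫ p) ≫ σ := by
          rw [← hki, Functor.map_comp, Functor.map_comp, Category.assoc, Category.assoc, sqP.w]
      _ = _ := by rw [hkp, Functor.map_comp, Category.assoc]
  -- over a point with a unique section every point of the chart lies in `G`
  have nec : ∀ {T' : Over S} (t : T' ⟶ T), Uniq a₀ t → ∀ x t', l.left x = t.left t' → x ∈ G := by
    intro T' t ht x t' hx
    have sq' := IsPullback.of_hasPullback l t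
    let pr₁ := pullback.fst l t
    let pr₂ := pullback.snd l t
    have e : (yon S).map pr₁ ≫ a = (yon S).map (pr₂ ≫ t) ≫ σ :=
      ht pr₂ _ _ (by rw [Category.assoc, ← hl, ← Functor.map_comp, sq'.w])
        (by rw [Category.assoc, hσ, Category.comp_id])
    obtain ⟨k, hk⟩ := (yon S).map_surjective (sqP.lift _ _ e)
    have hki : k ≫ i = pr₁ := (yon S).map_injective (by rw [Functor.map_comp, hk, sqP.lift_fst])
    have hkp : k ≫ p = pr₂ ≫ t := (yon S).map_injective (by rw [Functor.map_comp, hk, sqP.lift_snd])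
    have sqL : IsPullback pr₁.left pr₂.left l.left t.left := sq'.map (Over.forget S)
    obtain ⟨z₀, hz₁, -⟩ := Scheme.Pullback.exists_preimage_pullback x t' hx
    obtain ⟨z, hz⟩ := sqL.isoPullback.hom.surjective z₀
    have hzx : pr₁.left z = x := by
      rw [← hz₁, ← hz, ← Scheme.Hom.comp_apply, sqL.isoPullback_hom_fst]
    refine (hG x).2 ⟨⟨k.left z, ?_⟩, ?_⟩
    · rw [← hzx, ← hki]
      rfl
    haveI : Mono i := (Over.forget S).mono_of_mono_map (inferInstanceAs (Mono i.left))
    have sqB := IsPullback.of_hasPullback p t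
    let m : pullback l t ⟶ pullback p t := pullback.lift k pr₂ hkp
    let n : pullback p t ⟶ pullback l t := pullback.lift (pullback.fst p t ≫ i) (pullback.snd p t)
      (by rw [Category.assoc, hil, pullback.condition])
    have hn₁ : n ≫ pr₁ = pullback.fst p t ≫ i := pullback.lift_fst _ _ _
    have hn₂ : n ≫ pr₂ = pullback.snd p t := pullback.lift_snd _ _ _
    have hm₁ : m ≫ pullback.fst p t = k := pullback.lift_fst _ _ _
    have hm₂ : m ≫ pullback.snd p t = pr₂ := pullback.lift_snd _ _ _
    haveI : IsIso m := ⟨n, by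
      apply pullback.hom_ext
      · rw [Category.assoc, hn₁, reassoc_of% hm₁, hki, Category.id_comp]
      · rw [Category.assoc, hn₂, hm₂, Category.id_comp], by
      apply pullback.hom_ext
      · rw [Category.assoc, hm₁, Category.id_comp, ← cancel_mono i, Category.assoc, hki, hn₁]
      · rw [Category.assoc, hm₂, hn₂, Category.id_comp]⟩
    haveI : Etale pr₂.left := by
      haveI : IsIso m.left := inferInstanceAs (IsIso ((Over.forget S).map m))
      have : Etale (pullback.snd p t).left :=
        MorphismProperty.of_isPullback (P := @Etale) (sqB.map (Over.forget S)) hp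
      rw [← hm₂, Over.comp_left]
      infer_instance
    have h : z ∈ unramLocus pr₂.left := (formallyUnramified_iff_unramLocus _).1 inferInstance z
    rw [unramLocus_isPullback sqL, Set.mem_preimage, hzx] at h
    exact h
  let B : Set ↥T.left := l.left '' (G : Set ↥W.left)ᶜ
  let C : Set (Points F) := (Points.ofPt a '' (G : Set ↥W.left))ᶜ
  have hBC : ∀ t₀, t₀ ∈ B ↔ Points.schemeHomeo T t₀ ∈ Points.map a₀ '' C := by
    intro t₀
    constructor
    · intro hB
      by_contra hne
      obtain ⟨x, hxG, rfl⟩ := hB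
      let fs : Over.mk (T.left.fromSpecResidueField (l.left x) ≫ T.hom) ⟶ T :=
        Over.homMk (T.left.fromSpecResidueField (l.left x))
      have hfs : ∀ s, fs.left s = l.left x := fun s => T.left.fromSpecResidueField_apply _ s
      refine hxG (nec fs (fun T'' t' γ γ' h h' => ?_) x (IsLocalRing.closedPoint _) (hfs _).symm)
      have hmem : ∀ (δ : (yon S).obj T'' ⟶ F), δ ≫ a₀ = (yon S).map (t' ≫ fs) →
          ∀ y, Points.ofPt δ y ∈ Points.ofPt a '' (G : Set ↥W.left) := fun δ hδ y => by
        by_contra hy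
        exact hne ⟨_, hy, by rw [map_ofPt_eq a₀ hδ, Over.comp_left, Scheme.Hom.comp_apply, hfs]⟩
      rw [key _ γ h (hmem γ h), key _ γ' h' (hmem γ' h')]
    · rintro ⟨c, hc, e⟩
      obtain ⟨w, rfl⟩ := surjective_ofPt a has c
      refine ⟨w, fun hw => hc ⟨w, hw, rfl⟩, (Points.schemeHomeo T).injective ?_⟩
      rw [← map_ofPt_eq a₀ hl.symm]
      exact e
  have hB : IsClosed B := by
    have hC : IsClosed C := (isOpenMap_ofPt a hae _ G.2).isClosed_compl
    rw [show B = Points.schemeHomeo T ⁻¹' (Points.map a₀ '' C) from Set.ext hBC]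
    exact (hcl C hC).preimage (Points.schemeHomeo T).continuous
  refine ⟨⟨Bᶜ, hB.isOpen_compl⟩, fun T' t => ⟨fun ht x hx => ?_, fun h T'' t' γ γ' hγ hγ' => ?_⟩, fun hT hW => ?_⟩
  · obtain ⟨w, hw, e⟩ := hx
    exact hw (nec t ht w x e)
  · have hmem : ∀ (δ : (yon S).obj T'' ⟶ F), δ ≫ a₀ = (yon S).map (t' ≫ t) →
        ∀ y, Points.ofPt δ y ∈ Points.ofPt a '' (G : Set ↥W.left) := fun δ hδ y => by
      by_contra hy
      exact h (t'.left y) ((hBC _).2 ⟨_, hy, by rw [map_ofPt_eq a₀ hδ, Over.comp_left, Scheme.Hom.comp_apply]⟩)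
    rw [key _ γ hγ (hmem γ hγ), key _ γ' hγ' (hmem γ' hγ')]
  · haveI := hT
    haveI := hW
    haveI : LocallyOfFinitePresentation i.left := by
      haveI : LocallyOfFinitePresentation (i.left ≫ l.left) := by rw [hil']; infer_instance
      exact EGA43.Limit.locallyOfFinitePresentation_of_comp i.left l.left
    have hGc : IsLocallyConstructible (G : Set ↥W.left) := by
      rw [show (G : Set ↥W.left) = i.left '' Set.univ ∩ unramLocus l.left from
        Set.ext fun w => by rw [Set.image_univ]; exact hG w]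
      exact (i.left.isLocallyConstructible_image IsConstructible.univ.isLocallyConstructible).inter
        (isLocallyConstructible_unramLocus _)
    have := (l.left.isLocallyConstructible_image (H8Lim.isLocallyConstructible_compl hGc)).isConstructible.compl
    exact FlatMor12.IsoLocusMod.isCompact_of_isConstructible this

end Groth.Agent.IsoNatLib.CleanLocus
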